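import Groth.Agent.Lib.AffBC.Basic
import Groth.Agent.Lib.ClopenDec11.Basic
import Groth.Agent.Lib.GrpSchField.Criteria
import Groth.Agent.Lib.GrpSchField.Quot
import Groth.Agent.Lib.EssFree.Subgroup
import Groth.Agent.Lib.FMBC15.Main
import Groth.Agent.Lib.RedSmooth.Basic
import Mathlib.AlgebraicGeometry.AlgClosed.Basic
import Mathlib.AlgebraicGeometry.Artinian
import Mathlib.AlgebraicGeometry.Morphisms.QuasiFinite

/-!
For an isogeny `π` in characteristic zero, `π^* π_* E` is the sum of the translates of `E` by the kernel.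
-/

set_option autoImplicit false
set_option linter.style.haveILetI false
set_option backward.isDefEq.respectTransparency false

universe u

open CategoryTheory CategoryTheory.Limits MonoidalCategory CartesianMonoidalCategory MonObj GrpObj AlgebraicGeometry
open Scheme.Modules (pushforward pushforwardComp pushforwardCongr pushforwardId pullbackComp pullbackCongr
  pullbackPushforwardAdjunction restrictFunctorIsoPullback)
open GrothLib.ClopenDec11

noncomputable section

namespace GrothLib.IsogPushPull15

section Clopen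

variable {X : Scheme.{u}}

omit X in
theorem stalkLin_zero {X : Scheme.{u}} {F G : X.Modules} (x : X) (v : F.presheaf.stalk x) :
    QCoh.stalkLin (0 : F ⟶ G) x v = 0 := by
  obtain ⟨U, hU, s, rfl⟩ := TopCat.Presheaf.exists_germ_eq F.presheaf v
  rw [QCoh.stalkLin_germ]
  exact map_zero _

theorem stalkLin_sum {J : Type u} (t : Finset J) {F G : X.Modules} (f : J → (F ⟶ G)) (x : X)
    (v : F.presheaf.stalk x) : QCoh.stalkLin (∑ i ∈ t, f i) x v = ∑ i ∈ t, QCoh.stalkLin (f i) x v := by
  classical
  have hadd : ∀ a b : F ⟶ G, QCoh.stalkLin (a + b) x v = QCoh.stalkLin a x v + QCoh.stalkLin b x v := by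
    intro a b
    obtain ⟨U, hU, s, rfl⟩ := TopCat.Presheaf.exists_germ_eq F.presheaf v
    rw [QCoh.stalkLin_germ, QCoh.stalkLin_germ, QCoh.stalkLin_germ, ← map_add]
    rfl
  induction t using Finset.induction_on with
  | empty => simpa using stalkLin_zero x v
  | insert a s ha ih => rw [Finset.sum_insert ha, Finset.sum_insert ha, hadd, ih]

/-- The direct image of a module is the sum of the images of its parts over a finite clopen partition. -/
theorem nonempty_push_iso_coprod {Y : Scheme.{u}} (p : X ⟶ Y) {J : Type u} [Finite J] (S : J → TopologicalSpace.Clopens X)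
    (hd : ∀ i j, i ≠ j → ∀ x, x ∈ S i → x ∉ S j) (hc : ∀ x, ∃ i, x ∈ S i) (F : X.Modules) :
    Nonempty ((pushforward p).obj F ≅ ∐ fun i => (pushforward p).obj (part (S i) F)) := by
  classical
  haveI : Fintype J := Fintype.ofFinite J
  have horth : ∀ i j, i ≠ j → inc (S i) F ≫ prj (S j) F = 0 := by
    intro i j hij
    have hz : idem (S i) F ≫ idem (S j) F = 0 := hom_ext_germ _ _ fun x v => by
      rw [QCoh.stalkLin_comp, stalkLin_zero]
      by_cases hx : x ∈ S i
      · rw [stalkLin_idem_of_mem hx, stalkLin_idem_of_notMem (hd i j hij x hx)]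
      · rw [stalkLin_idem_of_notMem hx, map_zero]
    rw [← cancel_epi (prj (S i) F), ← cancel_mono (inc (S j) F), comp_zero, zero_comp, ← Category.assoc,
      prj_inc, Category.assoc, prj_inc, hz]
  have hsum : ∑ i, prj (S i) F ≫ inc (S i) F = 𝟙 F := by
    simp only [prj_inc]
    refine hom_ext_germ _ _ fun x v => ?_
    rw [stalkLin_sum, QCoh.stalkLin_id]
    obtain ⟨i, hi⟩ := hc x
    rw [Finset.sum_eq_single i (fun j _ hj => stalkLin_idem_of_notMem (hd i j (Ne.symm hj) x hi) v)
      (fun h => absurd (Finset.mem_univ i) h), stalkLin_idem_of_mem hi]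
  haveI : HasFiniteBiproducts Y.Modules := HasFiniteBiproducts.of_hasFiniteProducts
  refine ⟨({ hom := biproduct.lift fun i => (pushforward p).map (prj (S i) F)
             inv := biproduct.desc fun i => (pushforward p).map (inc (S i) F)
             hom_inv_id := ?_
             inv_hom_id := ?_ } : (pushforward p).obj F ≅ _) ≪≫
    biproduct.isoCoproduct fun i => (pushforward p).obj (part (S i) F)⟩
  · have hι : ∀ i, (pushforward p).map (inc (S i) F) ≫
        (biproduct.lift fun j => (pushforward p).map (prj (S j) F)) =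
        biproduct.ι (fun j => (pushforward p).obj (part (S j) F)) i := by
      intro i
      refine biproduct.hom_ext _ _ fun j => ?_
      rw [Category.assoc, biproduct.lift_π, ← Functor.map_comp]
      by_cases h : i = j
      · subst h
        rw [inc_prj, biproduct.ι_π_self, CategoryTheory.Functor.map_id]
      · rw [horth i j h, biproduct.ι_π_ne _ h, Functor.map_zero]
    conv_lhs => rw [← Category.id_comp (biproduct.lift _), ← CategoryTheory.Functor.map_id, ← hsum,
      Functor.map_sum, Preadditive.sum_comp]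
    simp only [Functor.map_comp, Category.assoc]
    simp only [reassoc_of% hι, Preadditive.sum_comp, Category.assoc, biproduct.ι_desc]
    simp only [← Functor.map_comp, ← Functor.map_sum, hsum, CategoryTheory.Functor.map_id]
  · refine biproduct.hom_ext' _ _ fun i => biproduct.hom_ext _ _ fun j => ?_
    rw [biproduct.ι_desc_assoc, Category.assoc, biproduct.lift_π, Category.comp_id, ← Functor.map_comp]
    by_cases h : i = j
    · subst h
      rw [inc_prj, biproduct.ι_π_self, CategoryTheory.Functor.map_id]
    · rw [horth i j h, biproduct.ι_π_ne _ h, Functor.map_zero]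

/-- Pullback along an isomorphism is the direct image along its inverse. -/
theorem nonempty_pullback_iso_push_inv {Y : Scheme.{u}} (e : X ≅ Y) :
    Nonempty (Scheme.Modules.pullback e.hom ≅ pushforward e.inv) :=
  ⟨(pullbackPushforwardAdjunction e.hom).leftAdjointUniq
    (CategoryTheory.Equivalence.mk (pushforward e.inv) (pushforward e.hom)
      ((pushforwardId Y).symm ≪≫ pushforwardCongr e.inv_hom_id.symm ≪≫ (pushforwardComp e.inv e.hom).symm)
      (pushforwardComp e.hom e.inv ≪≫ pushforwardCongr e.hom_inv_id ≪≫ pushforwardId X)).toAdjunction⟩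

/-- The piece of the direct image along `p` cut out by an open and closed section `s` of `p`. -/
theorem nonempty_push_part_iso {Y : Scheme.{u}} (p : X ⟶ Y) (s : Y ⟶ X) [IsOpenImmersion s] (hs : s ≫ p = 𝟙 Y)
    (U : X.Opens) (hU : IsClopen (U : Set X)) (hr : Set.range s = (U : Set X)) (F : X.Modules) :
    Nonempty ((pushforward p).obj (part ⟨(U : Set X), hU⟩ F) ≅ (Scheme.Modules.pullback s).obj F) := by
  obtain ⟨e₁⟩ := nonempty_part_iso_push U hU F
  let e : Y ≅ (U : Scheme.{u}) := IsOpenImmersion.isoOfRangeEq s U.ι (by rw [Scheme.Opens.range_ι, hr])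
  have he : e.hom ≫ U.ι = s := IsOpenImmersion.isoOfRangeEq_hom_fac _ _ _
  have hinv : U.ι ≫ p = e.inv := by
    rw [← cancel_epi e.hom, Iso.hom_inv_id, ← Category.assoc, he, hs]
  obtain ⟨e₂⟩ := nonempty_pullback_iso_push_inv e
  exact ⟨(pushforward p).mapIso e₁ ≪≫ (pushforwardComp U.ι p).app _ ≪≫ (pushforwardCongr hinv).app _ ≪≫
    (pushforward e.inv).mapIso ((restrictFunctorIsoPullback U.ι).app F) ≪≫ (e₂.app _).symm ≪≫
    (pullbackComp e.hom U.ι).app F ≪≫ (pullbackCongr he).app F⟩

end Clopen

variable {k : Type u} [Field k] [IsAlgClosed k]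

omit [IsAlgClosed k] in
/-- A finite reduced scheme over an algebraically closed field: rational points are open immersions. -/
theorem isOpenImmersion_point {K : Over (Spec (CommRingCat.of k))} [IsFinite K.hom] [IsReduced K.left]
    (z : 𝟙_ (Over (Spec (CommRingCat.of k))) ⟶ K) : IsOpenImmersion z.left := by
  haveI : IsLocallyArtinian (Spec (CommRingCat.of k)) := inferInstance
  haveI : IsLocallyArtinian K.left := IsLocallyArtinian.of_locallyQuasiFinite K.hom
  haveI : Mono z.left := by
    haveI : IsSplitMono z.left := ⟨⟨⟨K.hom, Over.w z⟩⟩⟩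
    infer_instance
  haveI : IsClosedImmersion z.left := by
    haveI : IsClosedImmersion (z.left ≫ K.hom) := by
      rw [Over.w z]; exact inferInstanceAs (IsClosedImmersion (𝟙 _))
    exact IsClosedImmersion.of_comp z.left K.hom
  let V : K.left.Opens := ⟨Set.range z.left, isOpen_discrete _⟩
  let r : (𝟙_ (Over (Spec (CommRingCat.of k)))).left ⟶ (V : Scheme.{u}) :=
    IsOpenImmersion.lift V.ι z.left (by rw [Scheme.Opens.range_ι]; exact subset_rfl)
  have hr : r ≫ V.ι = z.left := IsOpenImmersion.lift_fac _ _ _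
  haveI : IsClosedImmersion r := by
    haveI : IsClosedImmersion (r ≫ V.ι) := by rw [hr]; infer_instance
    exact IsClosedImmersion.of_comp r V.ι
  haveI : Surjective r := ⟨fun x => by
    obtain ⟨y, hy⟩ := x.2
    refine ⟨y, Subtype.ext ?_⟩
    rw [← hy]
    have e2 := congr($hr y)
    rw [Scheme.Hom.comp_apply] at e2
    exact e2⟩
  haveI : IsReduced (V : Scheme.{u}) := isReduced_of_isOpenImmersion V.ι
  haveI : IsIso r := isIso_of_isClosedImmersion_of_surjective r
  rw [← hr]
  infer_instance

/-- Pulling back the direct image along an isogeny in characteristic zero gives all translates by the kernel. -/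
theorem main [CharZero k]
    (A B : Over (Spec (CommRingCat.of k))) [GrpObj A] [IsProper A.hom] [Smooth A.hom]
    [GrpObj B] [IsProper B.hom] [Smooth B.hom]
    (π : A ⟶ B) [IsMonHom π] [IsFinite π.left] [Surjective π.left]
    (E : A.left.Modules) (hE : Coh.IsQCoh E) :
    Nonempty ((Scheme.Modules.pullback π.left).obj ((pushforward π.left).obj E) ≅
      ∐ fun a : {a : 𝟙_ (Over (Spec (CommRingCat.of k))) ⟶ A // a ≫ π = 1} =>
        (Scheme.Modules.pullback (𝟙 A * (toUnit A ≫ a.1)).left).obj E) := by
  haveI : E.IsQuasicoherent := hE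
  obtain ⟨K, i, hK⟩ : ∃ (K : Over (Spec (CommRingCat.of k))) (i : K ⟶ A),
      IsPullback i (toUnit K) π η[B] :=
    ⟨_, Limits.pullback.fst π η[B], by
      rw [← toUnit_unique (Limits.pullback.snd π η[B]) (toUnit _)]
      exact IsPullback.of_hasPullback π η[B]⟩
  haveI : Mono i := GrothLib.GrpSchField.mono_of_kernel hK
  have hfac : ∀ (T : Over (Spec (CommRingCat.of k))) (g : T ⟶ A), g ≫ π = 1 → ∃ z : T ⟶ K, z ≫ i = g :=
    fun T g hg => GrothLib.GrpSchField.exists_lift_of_comp_eq_one hK g hg
  have hiπ : i ≫ π = 1 := GrothLib.GrpSchField.comp_eq_one hK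
  obtain ⟨gK, hmi⟩ := GrothLib.EssFree.exists_grpObj_of_mono i
    (fun T => hfac T 1 (by rw [MonObj.one_comp]))
    (fun T a b => hfac T _ (by
      rw [MonObj.mul_comp, Category.assoc, Category.assoc, hiπ, MonObj.comp_one, MonObj.comp_one, _root_.mul_one]))
    (fun T a => hfac T _ (by rw [GrpObj.inv_comp, Category.assoc, hiπ, MonObj.comp_one, inv_one]))
  have hKS := hK.map (Over.forget _)
  haveI : IsFinite K.hom := by
    have h : IsFinite (toUnit K).left := MorphismProperty.of_isPullback hKS ‹IsFinite π.left›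
    rw [← Over.w (toUnit K)]
    exact inferInstanceAs (IsFinite ((toUnit K).left ≫ 𝟙 _))
  haveI : Smooth K.hom := GrothLib.GrpSchField.smooth_of_charZero K
  haveI : IsReduced K.left := GrothLib.RedSmooth.isReduced_of_smooth K.hom
  haveI : IsLocallyArtinian K.left := IsLocallyArtinian.of_locallyQuasiFinite K.hom
  haveI : CompactSpace K.left := QuasiCompact.compactSpace_of_compactSpace K.hom
  haveI : Finite K.left := finite_of_compact_of_discrete
  -- the fibre square
  let p : (A ⊗ K).left ⟶ A.left := (fst A K).left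
  let m : (A ⊗ K).left ⟶ A.left := (fst A K * (snd A K ≫ i)).left
  have sq : IsPullback m p π.left π.left :=
    ((GrothLib.GrpSchField.isPullback_kernelPair hK).map (Over.forget _)).flip
  haveI := GrothLib.AffBC.isIso_bcMap sq E
  -- the points of the kernel
  let pt : {a : 𝟙_ (Over (Spec (CommRingCat.of k))) ⟶ A // a ≫ π = 1} → (𝟙_ _ ⟶ K) := fun a =>
    (hfac _ a.1 a.2).choose
  have hpt : ∀ a, pt a ≫ i = a.1 := fun a => (hfac _ a.1 a.2).choose_spec
  let o : ↥(𝟙_ (Over (Spec (CommRingCat.of k)))).left := IsLocalRing.closedPoint k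
  let x : {a : 𝟙_ (Over (Spec (CommRingCat.of k))) ⟶ A // a ≫ π = 1} → K.left := fun a => (pt a).left o
  have hinj : Function.Injective x := by
    intro a b hab
    have e : (pt a).left = (pt b).left :=
      ext_of_apply_closedPoint_eq K.hom (Over.w (pt a)) (Over.w (pt b)) hab
    exact Subtype.ext (by rw [← hpt a, ← hpt b, Over.OverMorphism.ext e])
  have hsurj : Function.Surjective x := by
    intro y
    obtain ⟨⟨c, hc⟩, hcy⟩ := (pointEquivClosedPoint K.hom).surjective ⟨y, isClosed_discrete _⟩
    let z : 𝟙_ (Over (Spec (CommRingCat.of k))) ⟶ K := Over.homMk c hc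
    refine ⟨⟨z ≫ i, by rw [Category.assoc, hiπ, MonObj.comp_one]⟩, ?_⟩
    have hz : pt ⟨z ≫ i, by rw [Category.assoc, hiπ, MonObj.comp_one]⟩ = z := (cancel_mono i).1 (hpt _)
    show (pt _).left o = y
    rw [hz]
    exact congrArg Subtype.val hcy
  haveI : Finite {a : 𝟙_ (Over (Spec (CommRingCat.of k))) ⟶ A // a ≫ π = 1} := Finite.of_injective x hinj
  let q : (A ⊗ K).left ⟶ K.left := (snd A K).left
  let U : {a : 𝟙_ (Over (Spec (CommRingCat.of k))) ⟶ A // a ≫ π = 1} → (A ⊗ K).left.Opens := fun a =>
    q ⁻¹ᵁ ⟨{x a}, isOpen_discrete _⟩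
  have hU : ∀ a, IsClopen (U a : Set (A ⊗ K).left) := fun a =>
    (isClopen_discrete ({x a} : Set K.left)).preimage q.continuous
  obtain ⟨e₁⟩ := nonempty_push_iso_coprod p (fun a => (⟨_, hU a⟩ : TopologicalSpace.Clopens _))
    (fun a b hab w hwa hwb => hab (hinj (Set.eq_of_mem_singleton hwa ▸ Set.eq_of_mem_singleton hwb)))
    (fun w => (hsurj (q w)).imp fun a ha => ha.symm) ((Scheme.Modules.pullback m).obj E)
  have key : ∀ a, Nonempty ((pushforward p).obj (part ⟨_, hU a⟩ ((Scheme.Modules.pullback m).obj E)) ≅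
      (Scheme.Modules.pullback (𝟙 A * (toUnit A ≫ a.1)).left).obj E) := by
    intro a
    let s : A ⟶ A ⊗ K := lift (𝟙 A) (toUnit A ≫ pt a)
    have hsq : IsPullback s.left A.hom q (pt a).left := GrothLib.FMBC15.isPullback_slice (pt a)
    haveI : IsOpenImmersion s.left := MorphismProperty.of_isPullback hsq.flip (isOpenImmersion_point (pt a))
    have hs : s.left ≫ p = 𝟙 _ := by
      rw [← Over.comp_left, lift_fst, Over.id_left]
    have hm : s.left ≫ m = (𝟙 A * (toUnit A ≫ a.1)).left := by
      rw [← Over.comp_left, MonObj.comp_mul, lift_fst, ← Category.assoc, lift_snd, Category.assoc, hpt]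
    have hr : Set.range s.left = (U a : Set (A ⊗ K).left) := by
      have h := Scheme.image_preimage_eq_of_isPullback hsq.flip Set.univ
      rw [Set.preimage_univ, Set.image_univ, Set.image_univ] at h
      refine h.trans ?_
      ext w
      constructor
      · rintro ⟨y, hy⟩
        show q w = x a
        rw [← hy, Subsingleton.elim (α := ↥(Spec (CommRingCat.of k))) y o]
        rfl
      · intro hw
        exact ⟨o, hw.symm⟩
    obtain ⟨e⟩ := nonempty_push_part_iso p s.left hs (U a) (hU a) hr ((Scheme.Modules.pullback m).obj E)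
    exact ⟨e ≪≫ (pullbackComp s.left m).app E ≪≫ (pullbackCongr hm).app E⟩
  exact ⟨asIso (GrothLib.AffBC.bcMap sq E) ≪≫ e₁ ≪≫ Sigma.mapIso fun a => (key a).some⟩

end GrothLib.IsogPushPull15
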